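/- Descent of group-like and primitive elements of Hopf algebras along field extensions. -/
import Mathlib

set_option autoImplicit false

universe u

open TensorProduct Coalgebra

noncomputable section

namespace Groth.OneDimForms

variable {k : Type u} [Field k] {A : Type u} [CommRing A] [HopfAlgebra k A]

section Ring

variable (k A) (R : Type u) [CommRing R] [Algebra k R]

/-- The map `A ⊗ A → (R ⊗ A) ⊗_R (R ⊗ A)`. -/
def theta : A ⊗[k] A →ₗ[k] (R ⊗[k] A) ⊗[R] (R ⊗[k] A) :=
  ((TensorProduct.AlgebraTensorModule.distribBaseChange k R A A).toLinearMap.restrictScalars k).comp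
    (TensorProduct.mk k R (A ⊗[k] A) 1)

variable {k A}

@[simp]
lemma theta_tmul (a b : A) : theta k A R (a ⊗ₜ b) = ((1 : R) ⊗ₜ a) ⊗ₜ ((1 : R) ⊗ₜ b) := by
  simp [theta]

lemma theta_injective [Nontrivial R] : Function.Injective (theta k A R) := by
  intro x y h
  have h1 := (TensorProduct.AlgebraTensorModule.distribBaseChange k R A A).injective h
  exact Algebra.TensorProduct.includeRight_injective (R := k) (A := R) (B := A ⊗[k] A)
    (algebraMap k R).injective h1

lemma comul_one_tmul (a : A) :
    comul (R := R) ((1 : R) ⊗ₜ[k] a) = theta k A R (comul (R := k) a) := by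
  rw [TensorProduct.comul_tmul, Bialgebra.comul_one, Algebra.TensorProduct.one_def]
  generalize comul (R := k) a = c
  induction c using TensorProduct.induction_on with
  | zero => simp
  | tmul x y => simp
  | add x y hx hy => rw [tmul_add, map_add, map_add, hx, hy]

lemma comul_tmul_ring (r : R) (a : A) :
    comul (R := R) (r ⊗ₜ[k] a) = r • theta k A R (comul (R := k) a) := by
  rw [← comul_one_tmul, ← map_smul, smul_tmul', smul_eq_mul, mul_one]

lemma counit_tmul_ring (r : R) (a : A) :
    counit (R := R) (r ⊗ₜ[k] a) = r * algebraMap k R (counit (R := k) a) := by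
  simp [TensorProduct.counit_tmul, Algebra.smul_def, mul_comm]

lemma isGroupLikeElem_of_one_tmul [Nontrivial R] {a : A}
    (h : IsGroupLikeElem R ((1 : R) ⊗ₜ[k] a)) : IsGroupLikeElem k a := by
  refine ⟨(algebraMap k R).injective ?_, theta_injective R ?_⟩
  · rw [map_one, ← h.counit_eq_one, counit_tmul_ring, one_mul]
  · rw [theta_tmul, ← comul_one_tmul, h.comul_eq_tmul_self]

lemma comul_eq_of_one_tmul [Nontrivial R] {a : A}
    (h : comul (R := R) ((1 : R) ⊗ₜ[k] a) = ((1 : R) ⊗ₜ[k] a) ⊗ₜ 1 + 1 ⊗ₜ ((1 : R) ⊗ₜ[k] a)) :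
    comul (R := k) a = a ⊗ₜ 1 + 1 ⊗ₜ a := by
  apply theta_injective R
  rw [← comul_one_tmul, h, map_add, theta_tmul, theta_tmul]
  simp [Algebra.TensorProduct.one_def]

end Ring

section Change

variable {S R : Type u} [CommRing S] [CommRing R] [Algebra k S] [Algebra k R] [Algebra S R]
  [IsScalarTower k S R]

variable (k A S R) in
/-- Change of the ring of scalars. -/
abbrev changeRing : S ⊗[k] A →ₐ[k] R ⊗[k] A :=
  Algebra.TensorProduct.map (IsScalarTower.toAlgHom k S R) (AlgHom.id k A)

theorem isGroupLikeElem_changeRing {z : S ⊗[k] A} (hz : IsGroupLikeElem S z) :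
    IsGroupLikeElem R (changeRing k A S R z) := by
  let J : S ⊗[k] A →ₐ[k] R ⊗[k] A := changeRing k A S R
  have hJ : ∀ (s : S) (x : S ⊗[k] A), J (s • x) = algebraMap S R s • J x := by
    intro s x
    induction x using TensorProduct.induction_on with
    | zero => simp
    | tmul r a => simp [J, smul_tmul', Algebra.smul_def]
    | add x y hx hy => simp [smul_add, hx, hy]
  let Φ : (S ⊗[k] A) ⊗[S] (S ⊗[k] A) →+ (R ⊗[k] A) ⊗[R] (R ⊗[k] A) :=
    TensorProduct.liftAddHom
      { toFun := fun x =>
          { toFun := fun y => J x ⊗ₜ[R] J y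
            map_zero' := by simp
            map_add' := fun a b => by simp [tmul_add] }
        map_zero' := by ext; simp
        map_add' := fun a b => by ext; simp [add_tmul] }
      (fun s x y => by
        show J (s • x) ⊗ₜ[R] J y = J x ⊗ₜ[R] J (s • y)
        rw [hJ, hJ, smul_tmul])
  have hΦt : ∀ x y, Φ (x ⊗ₜ y) = J x ⊗ₜ[R] J y := fun _ _ => rfl
  have hΦs : ∀ (s : S) (c : (S ⊗[k] A) ⊗[S] (S ⊗[k] A)), Φ (s • c) = algebraMap S R s • Φ c := by
    intro s c
    induction c using TensorProduct.induction_on with
    | zero => simp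
    | tmul x y => rw [smul_tmul', hΦt, hΦt, hJ, smul_tmul']
    | add x y hx hy => simp [smul_add, hx, hy]
  have hθ : ∀ c : A ⊗[k] A, Φ (theta k A S c) = theta k A R c := by
    intro c
    induction c using TensorProduct.induction_on with
    | zero => simp
    | tmul x y => simp [hΦt, J]
    | add x y hx hy => simp [hx, hy]
  have hcomul : ∀ x : S ⊗[k] A, comul (R := R) (J x) = Φ (comul (R := S) x) := by
    intro x
    induction x using TensorProduct.induction_on with
    | zero => simp
    | tmul s a =>
      rw [comul_tmul_ring S, hΦs, hθ, Algebra.TensorProduct.map_tmul, comul_tmul_ring R]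
      rfl
    | add x y hx hy => simp [hx, hy]
  have hcounit : ∀ x : S ⊗[k] A, counit (R := R) (J x) = algebraMap S R (counit (R := S) x) := by
    intro x
    induction x using TensorProduct.induction_on with
    | zero => simp
    | tmul s a =>
      rw [Algebra.TensorProduct.map_tmul, counit_tmul_ring, counit_tmul_ring, map_mul,
        ← IsScalarTower.algebraMap_apply]
      rfl
    | add x y hx hy => simp [hx, hy]
  refine ⟨?_, ?_⟩
  · rw [hcounit, hz.counit_eq_one, map_one]
  · rw [hcomul, hz.comul_eq_tmul_self, hΦt]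

end Change

section Rigid

variable {R T : Type u} [CommRing R] [CommRing T] [Bialgebra R T]

/-- A group-like element with a basis of group-like powers is rigid. -/
theorem eq_of_pow_eq (B : Module.Basis ℤ R T) (hB : ∀ n, IsGroupLikeElem R (B n))
    (h0 : B 0 = 1) (hmul : ∀ m n, B (m + n) = B m * B n) {x : T} (hx : IsGroupLikeElem R x)
    {d : ℕ} (hd : d ≠ 0) (hpow : x ^ d = B (d : ℤ)) : x = B 1 := by
  classical
  let BB := B.tensorProduct B
  have hco : ∀ (y : T) (m n : ℤ), BB.repr (comul (R := R) y) (m, n) = if m = n then B.repr y m else 0 := by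
    intro y m n
    let L₁ : T →ₗ[R] R := (Finsupp.lapply (m, n)).comp (BB.repr.toLinearMap.comp comul)
    let L₂ : T →ₗ[R] R := if m = n then (Finsupp.lapply m).comp B.repr.toLinearMap else 0
    have h : L₁ = L₂ := by
      refine B.ext fun i => ?_
      simp only [L₁, L₂, LinearMap.comp_apply, LinearEquiv.coe_coe, Finsupp.lapply_apply,
        (hB i).comul_eq_tmul_self]
      rw [Module.Basis.tensorProduct_repr_tmul_apply]
      by_cases h : m = n
      · subst h
        by_cases hi : i = m
        · subst hi; simp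
        · simp [Ne.symm hi, hi]
      · rw [if_neg h]
        by_cases hi : i = m
        · subst hi; simp [Ne.symm h, h]
        · simp [Ne.symm hi, hi]
    have := LinearMap.congr_fun h y
    by_cases hmn : m = n <;> simp [L₁, L₂, hmn] at this ⊢ <;> exact this
  have hr : ∀ m n, B.repr x n * B.repr x m = if m = n then B.repr x m else 0 := by
    intro m n
    have := hco x m n
    rw [hx.comul_eq_tmul_self, Module.Basis.tensorProduct_repr_tmul_apply, smul_eq_mul] at this
    exact this
  have hsm : ∀ m, B.repr x m • x = B.repr x m • B m := by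
    intro m
    refine B.repr.injective (Finsupp.ext fun n => ?_)
    rw [map_smul, map_smul, Finsupp.smul_apply, Finsupp.smul_apply, smul_eq_mul, smul_eq_mul,
      B.repr_self, Finsupp.single_apply, mul_comm, hr]
    by_cases h : m = n <;> simp [h]
  have hp : ∀ (i : ℕ) (m : ℤ), B m ^ i = B (m * i) := by
    intro i m
    induction i with
    | zero => simp [h0]
    | succ i ih => rw [pow_succ, ih, ← hmul]; congr 1; push_cast; ring
  have hvan : ∀ m, m ≠ 1 → B.repr x m = 0 := by
    intro m hm
    obtain ⟨e, rfl⟩ := Nat.exists_eq_succ_of_ne_zero hd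
    have hidem : IsIdempotentElem (B.repr x m) := (hr m m).trans (if_pos rfl)
    have h1 : (B.repr x m • x) ^ (e + 1) = (B.repr x m • B m) ^ (e + 1) := by rw [hsm]
    rw [smul_pow, smul_pow, hidem.pow_succ_eq, hp] at h1
    rw [show e + 1 = e.succ from rfl, hpow] at h1
    have h2 := congrArg (fun y => B.repr y ((e.succ : ℕ) : ℤ)) h1
    simp only [map_smul, Finsupp.smul_apply, B.repr_self, Finsupp.single_apply, smul_eq_mul] at h2
    have hne : m * ((e.succ : ℕ) : ℤ) ≠ ((e.succ : ℕ) : ℤ) := by
      intro hh
      exact hm (mul_right_cancel₀ (Int.natCast_ne_zero.2 (Nat.succ_ne_zero e)) (hh.trans (one_mul _).symm))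
    rw [if_neg hne] at h2
    simpa using h2
  have hx1 : x = B.repr x 1 • B 1 := by
    refine B.repr.injective (Finsupp.ext fun n => ?_)
    rw [map_smul, Finsupp.smul_apply, B.repr_self, Finsupp.single_apply, smul_eq_mul]
    by_cases h : (1 : ℤ) = n
    · subst h; simp
    · rw [hvan n (Ne.symm h)]; simp [h]
  have h1 : B.repr x 1 = 1 := by
    have := hx.counit_eq_one
    rw [hx1, map_smul, (hB 1).counit_eq_one, smul_eq_mul, mul_one] at this
    exact this
  rw [hx1, h1, one_smul]

end Rigid

end Groth.OneDimForms
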