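/- Forms of the multiplicative group with a nonconstant unit are split. -/
import Groth.Agent.OneDimForms.Descent
import Groth.Agent.AlgGrp2.LineLaws

set_option autoImplicit false

universe u

open TensorProduct Coalgebra

noncomputable section

namespace Groth.OneDimForms

variable {k : Type u} [Field k] {A : Type u} [CommRing A] [HopfAlgebra k A] {L : Type u} [Field L] [Algebra k L]

/-- A linear functional on the extension field normalised at one. -/
lemma exists_functional : ∃ lam : L →ₗ[k] k, lam 1 = 1 := by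
  obtain ⟨lam, h⟩ := LinearMap.exists_leftInverse_of_injective (Algebra.linearMap k L)
    (LinearMap.ker_eq_bot.2 (algebraMap k L).injective)
  exact ⟨lam, by simpa using LinearMap.congr_fun h 1⟩

/-- An element of the base change with equal images in the two-fold base change descends. -/
lemma exists_one_tmul_eq (x : L ⊗[k] A)
    (h : Algebra.TensorProduct.map (Algebra.TensorProduct.includeLeft : L →ₐ[k] L ⊗[k] L) (AlgHom.id k A) x =
      Algebra.TensorProduct.map (Algebra.TensorProduct.includeRight : L →ₐ[k] L ⊗[k] L) (AlgHom.id k A) x) :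
    ∃ a : A, x = (1 : L) ⊗ₜ a := by
  obtain ⟨lam, hlam⟩ := exists_functional (k := k) (L := L)
  let L1 : L ⊗[k] L →ₗ[k] L := (TensorProduct.rid k L).toLinearMap.comp (TensorProduct.map LinearMap.id lam)
  let Λ : (L ⊗[k] L) ⊗[k] A →ₗ[k] L ⊗[k] A := TensorProduct.map L1 LinearMap.id
  let sA : L ⊗[k] A →ₗ[k] A := (TensorProduct.lid k A).toLinearMap.comp (TensorProduct.map lam LinearMap.id)
  have h1 : ∀ y : L ⊗[k] A, Λ (Algebra.TensorProduct.map
      (Algebra.TensorProduct.includeLeft : L →ₐ[k] L ⊗[k] L) (AlgHom.id k A) y) = y := by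
    intro y
    induction y using TensorProduct.induction_on with
    | zero => simp
    | tmul c a => simp [Λ, L1, hlam]
    | add y z hy hz => simp [hy, hz]
  have h2 : ∀ y : L ⊗[k] A, Λ (Algebra.TensorProduct.map
      (Algebra.TensorProduct.includeRight : L →ₐ[k] L ⊗[k] L) (AlgHom.id k A) y) = (1 : L) ⊗ₜ sA y := by
    intro y
    induction y using TensorProduct.induction_on with
    | zero => simp
    | tmul c a => simp [Λ, L1, sA, smul_tmul]
    | add y z hy hz => simp [hy, hz, tmul_add]
  refine ⟨sA x, ?_⟩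
  rw [← h2, ← h, h1]

/-- The retraction `L ⊗ A → A`. -/
lemma exists_retraction : ∃ (s : L ⊗[k] A →ₗ[k] A) (t : L → k), (∀ (c : L) (a : A), s (c ⊗ₜ a) = t c • a) ∧ ∀ (c : k) (a : A),
    s (algebraMap k L c ⊗ₜ a) = c • a := by
  obtain ⟨lam, hlam⟩ := exists_functional (k := k) (L := L)
  refine ⟨(TensorProduct.lid k A).toLinearMap.comp (TensorProduct.map lam LinearMap.id), lam,
    fun c a => by simp, fun c a => ?_⟩
  simp [Algebra.algebraMap_eq_smul_one, hlam]

/-- Rigidity gives descent of a group-like generator. -/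
theorem exists_descend (B : Module.Basis ℤ L (L ⊗[k] A)) (hB : ∀ n, IsGroupLikeElem L (B n))
    (h0 : B 0 = 1) (hmul : ∀ m n, B (m + n) = B m * B n) {a : A} {d : ℤ} (hd : d ≠ 0)
    (h : B d = (1 : L) ⊗ₜ a) : ∃ g : A, B 1 = (1 : L) ⊗ₜ g := by
  let R := L ⊗[k] L
  let J₁ := Algebra.TensorProduct.map (Algebra.TensorProduct.includeLeft : L →ₐ[k] R) (AlgHom.id k A)
  let J₂ := Algebra.TensorProduct.map (Algebra.TensorProduct.includeRight : L →ₐ[k] R) (AlgHom.id k A)
  let cb := Algebra.TensorProduct.cancelBaseChange k L R R A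
  let BT : Module.Basis ℤ R (R ⊗[k] A) := (B.baseChange R).map cb.toLinearEquiv
  have hcb : ∀ y : L ⊗[k] A, cb ((1 : R) ⊗ₜ y) = J₁ y := by
    intro y
    induction y using TensorProduct.induction_on with
    | zero => simp
    | tmul c b =>
      simp [cb, J₁, Algebra.smul_def]
      rfl
    | add y z hy hz => rw [tmul_add, map_add, map_add, hy, hz]
  have hBT : ∀ n, BT n = J₁ (B n) := fun n => by
    simp only [BT, Module.Basis.map_apply, Module.Basis.baseChange_apply]
    exact hcb (B n)
  have hg1 : ∀ z, IsGroupLikeElem L z → IsGroupLikeElem R (J₁ z) := by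
    intro z hz
    exact isGroupLikeElem_changeRing (S := L) (R := R) hz
  have hg2 : ∀ z, IsGroupLikeElem L z → IsGroupLikeElem R (J₂ z) := by
    intro z hz
    let alg : Algebra L R := Algebra.TensorProduct.rightAlgebra
    have tow := @IsScalarTower.of_algebraMap_eq k L R _ _ _ _ alg _
      (fun c => (AlgHom.commutes (Algebra.TensorProduct.includeRight : L →ₐ[k] R) c).symm)
    exact @isGroupLikeElem_changeRing k _ A _ _ L R _ _ _ _ alg tow z hz
  have hJa : ∀ b : A, J₁ ((1 : L) ⊗ₜ b) = J₂ ((1 : L) ⊗ₜ b) := by simp [J₁, J₂, R, Algebra.TensorProduct.one_def]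
  have hpos : ∃ (n : ℕ), n ≠ 0 ∧ J₁ (B (n : ℤ)) = J₂ (B (n : ℤ)) := by
    refine ⟨d.natAbs, Int.natAbs_ne_zero.2 hd, ?_⟩
    have hJd : J₁ (B d) = J₂ (B d) := by rw [h]; exact hJa a
    rcases Int.natAbs_eq d with e | e
    · rw [← e]; exact hJd
    · have hneg : (d.natAbs : ℤ) = -d := by omega
      rw [hneg]
      refine left_inv_eq_right_inv (a := J₁ (B d)) ?_ ?_
      · rw [← map_mul, ← hmul, neg_add_cancel, h0, map_one]
      · rw [hJd, ← map_mul, ← hmul, add_neg_cancel, h0, map_one]
  obtain ⟨n, hn, hJn⟩ := hpos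
  have key : J₂ (B 1) = BT 1 := by
    refine eq_of_pow_eq BT (fun i => ?_) ?_ (fun i j => ?_) (hg2 _ (hB 1)) hn ?_
    · rw [hBT]; exact hg1 _ (hB i)
    · rw [hBT, h0, map_one]
    · rw [hBT, hBT, hBT, hmul, map_mul]
    · rw [hBT, hJn, ← map_pow]
      congr 1
      clear hJn hn
      induction n with
      | zero => simp [h0]
      | succ n ih => rw [pow_succ, ih, ← hmul]; congr 1
  exact exists_one_tmul_eq (B 1) (by rw [hBT] at key; exact key.symm)

/-- A Hopf algebra whose base change is the group algebra of the integers, with a nonconstant unit,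
is the group algebra of the integers. -/
theorem nonempty_equiv_gm (e : L ⊗[k] A ≃ₐc[L] MonoidAlgebra L (Multiplicative ℤ))
    {u : A} (hu : IsUnit u) (hne : ∀ c : k, u ≠ algebraMap k A c) :
    Nonempty (A ≃ₐc[k] MonoidAlgebra k (Multiplicative ℤ)) := by
  classical
  let B : Module.Basis ℤ L (L ⊗[k] A) :=
    ((MonoidAlgebra.basis (Multiplicative ℤ) L).reindex Multiplicative.toAdd).map e.symm.toLinearEquiv
  have hB : ∀ n, B n = e.symm (MonoidAlgebra.single (Multiplicative.ofAdd n) 1) := fun n => by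
    simp [B]
    rfl
  have hBg : ∀ n, IsGroupLikeElem L (B n) := fun n => by
    rw [hB]
    exact (show IsGroupLikeElem L (MonoidAlgebra.single (Multiplicative.ofAdd n) (1 : L)) from
      ⟨by simp, by simp⟩).map e.symm
  have h0 : B 0 = 1 := by rw [hB, ofAdd_zero, ← MonoidAlgebra.one_def, map_one]
  have hmul : ∀ m n, B (m + n) = B m * B n := fun m n => by
    rw [hB, hB, hB, ← map_mul, MonoidAlgebra.single_mul_single, ofAdd_add, mul_one]
  -- the unit is a power of the generator
  obtain ⟨a, d, hd, hBd⟩ : ∃ (a : A) (d : ℤ), d ≠ 0 ∧ B d = (1 : L) ⊗ₜ a := by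
    let φ : L ⊗[k] A ≃ₐ[L] LaurentPolynomial L :=
      (e : L ⊗[k] A ≃ₐ[L] MonoidAlgebra L (Multiplicative ℤ)).trans
        (AddMonoidAlgebra.toMultiplicativeAlgEquiv L L ℤ).symm
    have hU : IsUnit (φ ((1 : L) ⊗ₜ u)) :=
      (hu.map (Algebra.TensorProduct.includeRight : A →ₐ[k] L ⊗[k] A)).map φ
    obtain ⟨c, n, -, hc⟩ := Groth.AlgGrp2.LineLaws.exists_monomial_of_isUnit _ hU
    have hBn : φ (B n) = LaurentPolynomial.T n := by
      rw [hB]
      show (AddMonoidAlgebra.toMultiplicativeAlgEquiv L L ℤ).symm (e (e.symm _)) = _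
      rw [BialgEquiv.apply_symm_apply, AlgEquiv.symm_apply_eq]
      exact (AddMonoidAlgebra.toMultiplicativeAlgEquiv_single (R := L) n (1 : L)).symm
    have h1 : (1 : L) ⊗ₜ u = c • B n := φ.injective (by
      rw [hc, map_smul, hBn, Algebra.smul_def]; rfl)
    have hc' : c = algebraMap k L (counit (R := k) u) := by
      have h2 := congrArg (counit (R := L)) h1
      rw [map_smul, (hBg n).counit_eq_one, counit_tmul_ring] at h2
      simpa using h2.symm
    have hεu : counit (R := k) u ≠ 0 := (hu.map (Bialgebra.counitAlgHom k A)).ne_zero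
    refine ⟨(counit (R := k) u)⁻¹ • u, n, fun hn => ?_, ?_⟩
    · subst hn
      rw [h0, hc'] at h1
      refine hne (counit (R := k) u) (Algebra.TensorProduct.includeRight_injective
        (R := k) (A := L) (B := A) (algebraMap k L).injective ?_)
      show (1 : L) ⊗ₜ u = (1 : L) ⊗ₜ algebraMap k A _
      rw [h1, Algebra.algebraMap_eq_smul_one (R := k) (A := A), tmul_smul, ← Algebra.TensorProduct.one_def,
        algebraMap_smul]
    · rw [tmul_smul, h1, hc', algebraMap_smul, smul_smul, inv_mul_cancel₀ hεu, one_smul]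
  obtain ⟨g, hg⟩ := exists_descend B hBg h0 hmul hd hBd
  have hgg : IsGroupLikeElem k g := isGroupLikeElem_of_one_tmul L (hg ▸ hBg 1)
  obtain ⟨g', hg'⟩ : ∃ g' : A, g * g' = 1 := by
    obtain ⟨s, t₀, ht₀, hs⟩ := exists_retraction (k := k) (A := A) (L := L)
    have h1 : (1 : L ⊗[k] A) = B 1 * B (-1) := by rw [← hmul, add_neg_cancel, h0]
    have hs' : ∀ z, s ((1 : L) ⊗ₜ g * z) = g * s z := by
      intro z
      induction z using TensorProduct.induction_on with
      | zero => simp
      | tmul c b =>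
        rw [Algebra.TensorProduct.tmul_mul_tmul, one_mul]
        obtain ⟨t, ht⟩ : ∃ t : k, ∀ x : A, s (c ⊗ₜ x) = t • x := ⟨t₀ c, ht₀ c⟩
        rw [ht, ht, mul_smul_comm]
      | add y z hy hz => rw [mul_add, map_add, map_add, hy, hz, mul_add]
    refine ⟨s (B (-1)), ?_⟩
    rw [← hs', ← hg, ← h1, Algebra.TensorProduct.one_def, ← map_one (algebraMap k L), hs, one_smul]
  let gu : Aˣ := ⟨g, g', hg', mul_comm g g' ▸ hg'⟩
  let ψ : MonoidAlgebra k (Multiplicative ℤ) →ₐ[k] A :=
    MonoidAlgebra.lift k A (Multiplicative ℤ) ((Units.coeHom A).comp (zpowersHom Aˣ gu))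
  have hψ : ∀ n : ℤ, ψ (MonoidAlgebra.single (Multiplicative.ofAdd n) 1) = ((gu ^ n : Aˣ) : A) := fun n => by
    simp [ψ]
  have hψB : ∀ n : ℤ, (1 : L) ⊗ₜ[k] ((gu ^ n : Aˣ) : A) = B n := by
    let ι : A →* L ⊗[k] A := (Algebra.TensorProduct.includeRight : A →ₐ[k] L ⊗[k] A)
    have hun : ∀ n, IsUnit (B n) := fun n => IsUnit.of_mul_eq_one (B (-n)) (by rw [← hmul, add_neg_cancel, h0])
    intro n
    induction n using Int.induction_on with
    | zero => simp [h0, Algebra.TensorProduct.one_def]
    | succ i ih =>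
      rw [zpow_add_one, Units.val_mul, show (1 : L) = 1 * 1 from (one_mul _).symm,
        ← Algebra.TensorProduct.tmul_mul_tmul, ih, hmul, hg]
    | pred i ih =>
      apply (hun 1).mul_right_cancel
      rw [← hmul, sub_add_cancel, ← ih, hg, Algebra.TensorProduct.tmul_mul_tmul, one_mul, zpow_sub_one,
        Units.val_mul]
      simp [gu, mul_assoc, mul_comm g' g, hg']
  have hgn : ∀ n : ℤ, IsGroupLikeElem k ((gu ^ n : Aˣ) : A) := fun n =>
    isGroupLikeElem_of_one_tmul L (hψB n ▸ hBg n)
  let Ψ : MonoidAlgebra k (Multiplicative ℤ) →ₐc[k] A := BialgHom.ofAlgHom ψ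
    (MonoidAlgebra.algHom_ext (fun n => by
      show counit (ψ (MonoidAlgebra.single n 1)) = counit (R := k) (MonoidAlgebra.single n (1 : k))
      rw [← ofAdd_toAdd n, hψ, (hgn _).counit_eq_one]
      simp) (by ext))
    (MonoidAlgebra.algHom_ext (fun n => by
      show Algebra.TensorProduct.map ψ ψ (comul (R := k) (MonoidAlgebra.single n (1 : k))) =
        comul (R := k) (ψ (MonoidAlgebra.single n 1))
      rw [← ofAdd_toAdd n, hψ, (hgn _).comul_eq_tmul_self]
      simp [← hψ]) (by ext))
  obtain ⟨s, t₀, ht₀, hs⟩ := exists_retraction (k := k) (A := A) (L := L)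
  have hbij : Function.Bijective Ψ := by
    refine ⟨fun x y hxy => ?_, fun b => ?_⟩
    · let E := MonoidAlgebra.basis (Multiplicative ℤ) k
      have hli : LinearIndependent k (fun n : Multiplicative ℤ => ψ (E n)) := by
        refine LinearIndependent.of_comp (Algebra.TensorProduct.includeRight : A →ₐ[k] L ⊗[k] A).toLinearMap ?_
        have : LinearIndependent k (fun n : Multiplicative ℤ => B (Multiplicative.toAdd n)) :=
          ((B.linearIndependent.comp _ Multiplicative.toAdd.injective).restrict_scalars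
            (fun r₁ r₂ h => (algebraMap k L).injective (by simpa [Algebra.smul_def] using h)))
        have hfun : ((Algebra.TensorProduct.includeRight : A →ₐ[k] L ⊗[k] A).toLinearMap ∘
            fun n : Multiplicative ℤ => ψ (E n)) = fun n => B (Multiplicative.toAdd n) := funext fun n => by
          simp only [Function.comp_apply, E, MonoidAlgebra.basis_apply]
          rw [← ofAdd_toAdd n, hψ]
          exact hψB _
        rw [hfun]
        exact this
      have hinj : Function.Injective ψ.toLinearMap :=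
        LinearMap.injective_of_linearIndependent E.span_eq hli
      exact hinj hxy
    · have hmem : ∀ z : L ⊗[k] A, ∀ c : L, s (c • z) ∈ LinearMap.range ψ.toLinearMap := by
        intro z
        have hz : z ∈ Submodule.span L (Set.range B) := B.mem_span z
        induction hz using Submodule.span_induction with
        | mem z hz =>
          obtain ⟨n, rfl⟩ := hz
          intro c
          obtain ⟨t, ht⟩ : ∃ t : k, ∀ x : A, s (c ⊗ₜ x) = t • x := ⟨t₀ c, ht₀ c⟩
          refine ⟨t • MonoidAlgebra.single (Multiplicative.ofAdd n) 1, ?_⟩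
          rw [← hψB, smul_tmul', smul_eq_mul, mul_one, ht, map_smul]
          exact congrArg (t • ·) (hψ n)
        | zero => intro c; simp
        | add x y _ _ hx hy => intro c; rw [smul_add, map_add]; exact add_mem (hx c) (hy c)
        | smul r x _ hx => intro c; rw [smul_smul]; exact hx _
      obtain ⟨x, hx⟩ := hmem ((1 : L) ⊗ₜ b) 1
      refine ⟨x, hx.trans ?_⟩
      rw [one_smul, ← map_one (algebraMap k L), hs, one_smul]
  exact ⟨(BialgEquiv.ofBijective Ψ hbij).symm⟩

end Groth.OneDimForms
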