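/- A form of the additive group dominated by the additive group is split. -/
import Groth.Agent.OneDimForms.Gm

set_option autoImplicit false

universe u

open TensorProduct Coalgebra Polynomial

noncomputable section

namespace Groth.OneDimForms

variable {k : Type u} [Field k] {L : Type u} [Field L] [Algebra k L]

/-- A linear map which vanishes on the kernel of another factors through it. -/
lemma exists_comp_eq_of_ker_le {V W U : Type u} [AddCommGroup V] [Module k V] [AddCommGroup W] [Module k W]
    [AddCommGroup U] [Module k U] (m : V →ₗ[k] W) (c : V →ₗ[k] U) (h : LinearMap.ker m ≤ LinearMap.ker c) :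
    ∃ μ : W →ₗ[k] U, μ.comp m = c := by
  obtain ⟨μ, hμ⟩ := LinearMap.exists_extend
    (((LinearMap.ker m).liftQ c h).comp m.quotKerEquivRange.symm.toLinearMap)
  refine ⟨μ, LinearMap.ext fun v => ?_⟩
  have := LinearMap.congr_fun hμ ⟨m v, LinearMap.mem_range_self m v⟩
  simpa [LinearMap.quotKerEquivRange_symm_apply_image m v (LinearMap.mem_range_self m v)] using this

variable {A : Type u} [CommRing A] [HopfAlgebra k A]

/-- The base change of a map to the polynomial ring. -/
def polyBar (L : Type u) [Field L] [Algebra k L] (φ : A →ₐ[k] k[X]) : L ⊗[k] A →ₐ[k] L[X] :=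
  (polyEquivTensor k L).symm.toAlgHom.comp (Algebra.TensorProduct.map (AlgHom.id k L) φ)

lemma polyBar_tmul (φ : A →ₐ[k] k[X]) (c : L) (a : A) :
    polyBar L φ (c ⊗ₜ a) = c • (φ a).map (algebraMap k L) := by
  simp [polyBar]

lemma polyBar_injective (φ : A →ₐ[k] k[X]) (hφ : Function.Injective φ) :
    Function.Injective (polyBar L φ) :=
  (polyEquivTensor k L).symm.injective.comp
    (Module.Flat.lTensor_preserves_injective_linearMap φ.toLinearMap hφ)

lemma polyBar_smul (φ : A →ₐ[k] k[X]) (c : L) (x : L ⊗[k] A) : polyBar L φ (c • x) = c • polyBar L φ x := by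
  induction x using TensorProduct.induction_on with
  | zero => simp
  | tmul r a => rw [smul_tmul', polyBar_tmul, polyBar_tmul, smul_smul, smul_eq_mul]
  | add x y hx hy => simp [smul_add, hx, hy]

/-- The degree of a base-changed element is attained over the ground field. -/
theorem exists_natDegree_eq (φ : A →ₐ[k] k[X]) (x : L ⊗[k] A) (e : ℕ)
    (hdeg : (polyBar L φ x).natDegree = e) (hne : (polyBar L φ x).coeff e ≠ 0) :
    ∃ a : A, (φ a).natDegree = e := by
  by_contra hcon
  push Not at hcon
  have hQ : (X ^ (e + 1) : k[X]).Monic := monic_X_pow _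
  let m : A →ₗ[k] k[X] := (LinearMap.id - Polynomial.modByMonicHom (X ^ (e + 1))).comp φ.toLinearMap
  let c : A →ₗ[k] k := (Polynomial.lcoeff k e).comp φ.toLinearMap
  have hker : LinearMap.ker m ≤ LinearMap.ker c := by
    intro a ha
    rw [LinearMap.mem_ker] at ha ⊢
    have h1 : φ a %ₘ X ^ (e + 1) = φ a := (sub_eq_zero.1 ha).symm
    rw [modByMonic_eq_self_iff hQ, degree_X_pow] at h1
    by_contra hc
    refine hcon a (le_antisymm ?_ (le_natDegree_of_ne_zero hc))
    by_cases h0 : φ a = 0
    · simp [h0]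
    · have := (natDegree_lt_iff_degree_lt h0).2 h1
      omega
  obtain ⟨μ, hμ⟩ := exists_comp_eq_of_ker_le m c hker
  let μL : L[X] →ₗ[L] L := (Polynomial.basisMonomials L).constr L fun j => algebraMap k L (μ (X ^ j))
  have hμL : ∀ P : k[X], μL (P.map (algebraMap k L)) = algebraMap k L (μ P) := by
    intro P
    induction P using Polynomial.induction_on' with
    | add p q hp hq => simp [Polynomial.map_add, hp, hq]
    | monomial n r =>
      rw [map_monomial, ← mul_one (algebraMap k L r), ← smul_eq_mul, ← smul_monomial, map_smul,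
        show monomial n (1 : L) = Polynomial.basisMonomials L n by rw [coe_basisMonomials],
        (Polynomial.basisMonomials L).constr_basis, smul_eq_mul, ← map_mul, ← smul_eq_mul r, ← map_smul,
        X_pow_eq_monomial, smul_monomial, smul_eq_mul, mul_one]
  have key : ∀ y : L ⊗[k] A,
      μL (polyBar L φ y - polyBar L φ y %ₘ X ^ (e + 1)) = (polyBar L φ y).coeff e := by
    intro y
    induction y using TensorProduct.induction_on with
    | zero => simp
    | tmul r a =>
      have h := LinearMap.congr_fun hμ a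
      simp only [m, c, LinearMap.comp_apply, LinearMap.sub_apply, LinearMap.id_apply,
        AlgHom.toLinearMap_apply, Polynomial.lcoeff_apply] at h
      rw [polyBar_tmul, smul_modByMonic, ← smul_sub, map_smul, coeff_smul,
        show (X : L[X]) ^ (e + 1) = (X ^ (e + 1) : k[X]).map (algebraMap k L) by simp,
        ← map_modByMonic _ hQ, ← Polynomial.map_sub, hμL, coeff_map, ← h]
      rfl
    | add y z hy hz =>
      rw [map_add (polyBar L φ), add_modByMonic, coeff_add, ← hy, ← hz, ← map_add μL, add_sub_add_comm]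
  refine hne ?_
  rw [← key x, (modByMonic_eq_self_iff (monic_X_pow _)).2, sub_self, map_zero]
  rw [degree_X_pow]
  exact lt_of_le_of_lt degree_le_natDegree (by rw [hdeg]; exact_mod_cast Nat.lt_succ_self e)

/-- A Hopf algebra inside the polynomial ring whose base change is primitively generated is primitively generated. -/
theorem nonempty_equiv_ga (e : L ⊗[k] A ≃ₐc[L] SymmetricAlgebra L L) (φ : A →ₐ[k] k[X])
    (hφ : Function.Injective φ) : Nonempty (A ≃ₐc[k] SymmetricAlgebra k k) := by
  let Φ : SymmetricAlgebra L L →ₐ[L] L[X] :=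
    SymmetricAlgebra.lift ((LinearMap.id : L →ₗ[L] L).smulRight (X : L[X]))
  let P : L[X] ≃ₐ[L] SymmetricAlgebra L L := AlgEquiv.ofAlgHom (aeval (SymmetricAlgebra.ι L L 1)) Φ
    (SymmetricAlgebra.algHom_ext (LinearMap.ext_ring (by simp [Φ])))
    (Polynomial.algHom_ext (by simp [Φ]))
  let Q : L[X] ≃ₐ[L] L ⊗[k] A :=
    P.trans ((e : L ⊗[k] A ≃ₐ[L] SymmetricAlgebra L L).symm)
  let q : L ⊗[k] A := Q X
  have hq : q = e.symm (SymmetricAlgebra.ι L L 1) := by simp [q, Q, P]; rfl
  have hqε : counit (R := L) q = 0 := by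
    rw [hq, CoalgHomClass.counit_comp_apply, SymmetricAlgebra.counit_ι]
  have hqΔ : comul (R := L) q = q ⊗ₜ 1 + 1 ⊗ₜ q := by
    rw [hq, ← CoalgHomClass.map_comp_comul_apply e.symm, SymmetricAlgebra.comul_ι]
    simp
  -- the polynomial of the generator
  let φL : L ⊗[k] A →ₐ[L] L[X] :=
    { polyBar L φ with
      commutes' := fun r => by
        show polyBar L φ (algebraMap L (L ⊗[k] A) r) = _
        rw [Algebra.algebraMap_eq_smul_one, polyBar_smul, map_one, Algebra.algebraMap_eq_smul_one] }
  have hcomp : ∀ R : L[X], φL (Q R) = R.comp (φL q) := fun R => by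
    have h : (φL.comp (Q : L[X] →ₐ[L] L ⊗[k] A)) = aeval (φL q) := Polynomial.algHom_ext (by simp [q])
    exact (DFunLike.congr_fun h R).trans (comp_eq_aeval).symm
  have hinj : Function.Injective φL := polyBar_injective φ hφ
  let d := (φL q).natDegree
  have hd : d ≠ 0 := by
    intro h0
    obtain ⟨c, hc⟩ := natDegree_eq_zero.1 h0
    have h1 : Q X = Q (C c) := hinj (by rw [hcomp (C c), C_comp, hc])
    exact X_ne_C c (Q.injective h1)
  obtain ⟨a, ha⟩ := exists_natDegree_eq φ q d rfl
    (by
      show (φL q).coeff d ≠ 0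
      exact leadingCoeff_ne_zero.2 fun h => hd (by simp [d, h]))
  obtain ⟨R, hR⟩ := Q.surjective ((1 : L) ⊗ₜ a)
  have hRdeg : R.natDegree = 1 := by
    have h := congrArg natDegree (hcomp R)
    rw [natDegree_comp, hR] at h
    change (polyBar L φ _).natDegree = _ at h
    rw [polyBar_tmul, one_smul, natDegree_map, ha] at h
    exact mul_right_cancel₀ hd (h.symm.trans (one_mul d).symm)
  obtain ⟨α, β, hα, rfl⟩ : ∃ α β : L, α ≠ 0 ∧ R = C α * X + C β := by
    refine ⟨R.coeff 1, R.coeff 0, ?_, eq_X_add_C_of_natDegree_le_one hRdeg.le⟩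
    have := leadingCoeff_ne_zero.2 (ne_zero_of_natDegree_gt (n := 0) (hRdeg ▸ Nat.one_pos))
    rwa [leadingCoeff, hRdeg] at this
  -- the normalised element
  let a' : A := a - algebraMap k A (counit (R := k) a)
  have hQR : Q (C α * X + C β) = α • q + β • 1 := by
    rw [map_add, map_mul, ← Polynomial.algebraMap_eq, AlgEquiv.commutes, AlgEquiv.commutes,
      ← Algebra.smul_def, Algebra.algebraMap_eq_smul_one]
  have hβ : β = algebraMap k L (counit (R := k) a) := by
    have h := congrArg (counit (R := L)) (hQR.symm.trans hR)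
    rw [map_add, map_smul, map_smul, hqε, Bialgebra.counit_one, counit_tmul_ring] at h
    simpa using h
  have ha' : (1 : L) ⊗ₜ[k] a' = α • q := by
    rw [tmul_sub, ← hR, hQR, hβ, Algebra.algebraMap_eq_smul_one (R := k) (A := A), tmul_smul,
      ← Algebra.TensorProduct.one_def, algebraMap_smul, add_sub_cancel_right]
  have hprim : comul (R := k) a' = a' ⊗ₜ 1 + 1 ⊗ₜ a' := by
    refine comul_eq_of_one_tmul L ?_
    rw [ha', map_smul, hqΔ, smul_add, smul_tmul', ← tmul_smul]
  have hε : counit (R := k) a' = 0 := by simp [a', Bialgebra.counit_algebraMap]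
  let ψ : SymmetricAlgebra k k →ₐ[k] A :=
    SymmetricAlgebra.lift ((LinearMap.id : k →ₗ[k] k).smulRight a')
  have hψι : ψ (SymmetricAlgebra.ι k k 1) = a' := by simp [ψ]
  let Ψ : SymmetricAlgebra k k →ₐc[k] A := BialgHom.ofAlgHom ψ
    (SymmetricAlgebra.algHom_ext (LinearMap.ext_ring (by
      show counit (ψ (SymmetricAlgebra.ι k k 1)) = counit (R := k) (SymmetricAlgebra.ι k k (1 : k))
      rw [hψι, hε, SymmetricAlgebra.counit_ι])))
    (SymmetricAlgebra.algHom_ext (LinearMap.ext_ring (by
      show Algebra.TensorProduct.map ψ ψ (comul (R := k) (SymmetricAlgebra.ι k k (1 : k))) =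
        comul (R := k) (ψ (SymmetricAlgebra.ι k k 1))
      rw [hψι, hprim, SymmetricAlgebra.comul_ι]
      simp [hψι])))
  -- bijectivity
  let Φk : SymmetricAlgebra k k →ₐ[k] k[X] :=
    SymmetricAlgebra.lift ((LinearMap.id : k →ₗ[k] k).smulRight (X : k[X]))
  have hΦk : ∀ s, ψ s = aeval a' (Φk s) := fun s =>
    DFunLike.congr_fun (show ψ = (aeval a').comp Φk from SymmetricAlgebra.algHom_ext
      (LinearMap.ext_ring (by simp [Φk, ψ]))) s
  have hΦki : ∀ p : k[X], Φk (aeval (SymmetricAlgebra.ι k k 1) p) = p := fun p =>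
    DFunLike.congr_fun (Polynomial.algHom_ext (f := Φk.comp (aeval (SymmetricAlgebra.ι k k 1)))
      (g := AlgHom.id k k[X]) (by simp [Φk])) p
  have hΦkj : ∀ s, aeval (SymmetricAlgebra.ι k k 1) (Φk s) = s := fun s =>
    DFunLike.congr_fun (show (aeval (SymmetricAlgebra.ι k k 1)).comp Φk = AlgHom.id k (SymmetricAlgebra k k)
      from SymmetricAlgebra.algHom_ext (LinearMap.ext_ring (by simp [Φk]))) s
  have heval : ∀ p : k[X], (1 : L) ⊗ₜ[k] aeval a' p = Q ((p.map (algebraMap k L)).comp (C α * X)) := by
    intro p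
    have h1 : (1 : L) ⊗ₜ[k] aeval a' p = aeval ((1 : L) ⊗ₜ[k] a') p :=
      (Polynomial.aeval_algHom_apply (Algebra.TensorProduct.includeRight : A →ₐ[k] L ⊗[k] A) a' p).symm
    rw [h1, ← aeval_map_algebraMap L, ha', comp_eq_aeval, ← aeval_algHom_apply, map_mul,
      ← Polynomial.algebraMap_eq, AlgEquiv.commutes, ← Algebra.smul_def]
  have hbij : Function.Bijective Ψ := by
    refine ⟨fun x y hxy => ?_, fun b => ?_⟩
    · change ψ x = ψ y at hxy
      rw [hΦk, hΦk] at hxy
      have h := congrArg ((1 : L) ⊗ₜ[k] ·) hxy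
      simp only [heval] at h
      have h2 := congrArg (fun p : L[X] => p.comp (C α⁻¹ * X)) (Q.injective h)
      have hc : (C α * X : L[X]).comp (C α⁻¹ * X) = X := by
        rw [mul_comp, C_comp, X_comp, ← mul_assoc, ← C_mul, mul_inv_cancel₀ hα, C_1, one_mul]
      simp only [comp_assoc, hc, comp_X] at h2
      rw [← hΦkj x, ← hΦkj y, map_injective _ (algebraMap k L).injective h2]
    · obtain ⟨s, t, ht, hs⟩ := exists_retraction (k := k) (A := A) (L := L)
      suffices H : ∀ R : L[X], ∃ p : k[X], aeval a' p = s (aeval (α • q) R) by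
        obtain ⟨R, hR'⟩ := Q.surjective ((1 : L) ⊗ₜ b)
        obtain ⟨p, hp⟩ := H (R.comp (C α⁻¹ * X))
        refine ⟨aeval (SymmetricAlgebra.ι k k 1) p, ?_⟩
        show ψ _ = b
        rw [hΦk, hΦki, hp]
        have hqR : aeval (α • q) (R.comp (C α⁻¹ * X)) = Q R := by
          rw [aeval_comp, map_mul, aeval_C, aeval_X, ← Algebra.smul_def, smul_smul, inv_mul_cancel₀ hα,
            one_smul]
          exact (DFunLike.congr_fun (Polynomial.algHom_ext (f := aeval q)
            (g := (Q : L[X] →ₐ[L] L ⊗[k] A)) (by simp [q])) R)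
        rw [hqR, hR', ← map_one (algebraMap k L), hs, one_smul]
      intro R
      induction R using Polynomial.induction_on' with
      | add p p' hp hp' =>
        obtain ⟨u, hu⟩ := hp
        obtain ⟨v, hv⟩ := hp'
        exact ⟨u + v, by simp [hu, hv]⟩
      | monomial n r =>
        refine ⟨C (t r) * X ^ n, ?_⟩
        rw [aeval_monomial, ← ha', Algebra.TensorProduct.tmul_pow, one_pow,
          Algebra.TensorProduct.algebraMap_apply, Algebra.TensorProduct.tmul_mul_tmul, mul_one, one_mul, ht,
          map_mul, aeval_C, aeval_X_pow, Algebra.smul_def]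
        rfl
  exact ⟨(BialgEquiv.ofBijective Ψ hbij).symm⟩

end Groth.OneDimForms
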