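/- Geometric input for the classification of forms of one-dimensional groups. -/
import Groth.Agent.S12500
import Groth.Agent.S7976
import Groth.Agent.OneDimForms.Ga
import Groth.Agent.Calg4.SmoothReduced
import Groth.Agent.Calg8.IntegralDimEq
import Groth.Agent.Calg5.ConnIdem
import Groth.Agent.Misc1.Unip.DimOne.GeomConn

set_option autoImplicit false

universe u

open TensorProduct CategoryTheory AlgebraicGeometry Groth.VarietyBC

noncomputable section

namespace Groth.OneDimForms

variable {k : Type u} [Field k]

/-- Laurent polynomials over a field form a one-dimensional ring. -/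
theorem ringKrullDim_groupAlgebra_int :
    ringKrullDim (MonoidAlgebra k (Multiplicative ℤ)) = 1 := by
  let T : MonoidAlgebra k (Multiplicative ℤ) ≃ₐ[k] LaurentPolynomial k :=
    (AddMonoidAlgebra.toMultiplicativeAlgEquiv k k ℤ).symm
  rw [ringKrullDim_eq_of_ringEquiv T.toRingEquiv]
  haveI : IsDomain (LaurentPolynomial k) := NoZeroDivisors.to_isDomain _
  haveI : IsPrincipalIdealRing (LaurentPolynomial k) := ⟨fun J => by
    rw [← IsLocalization.map_comap (Submonoid.powers (Polynomial.X : Polynomial k)) (LaurentPolynomial k) J]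
    obtain ⟨g, hg⟩ := IsPrincipalIdealRing.principal (J.under (Polynomial k))
    exact ⟨algebraMap (Polynomial k) (LaurentPolynomial k) g, by rw [hg, Ideal.submodule_span_eq,
      Ideal.map_span, Set.image_singleton]⟩⟩
  refine IsPrincipalIdealRing.ringKrullDim_eq_one _ fun hf => ?_
  let ε : MonoidAlgebra k (Multiplicative ℤ) →ₐ[k] k := MonoidAlgebra.lift k k (Multiplicative ℤ) 1
  have h0 : MonoidAlgebra.single (Multiplicative.ofAdd (1 : ℤ)) (1 : k) - 1 ≠ 0 := by
    rw [sub_ne_zero, MonoidAlgebra.one_def]
    intro h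
    rcases Finsupp.single_eq_single_iff _ _ _ _ |>.1 (congrArg MonoidAlgebra.coeff h) with ⟨h1, -⟩ | ⟨h1, -⟩
    · exact absurd (congrArg Multiplicative.toAdd h1) (by decide)
    · exact one_ne_zero h1
  have hu := ((hf.mul_inv_cancel ((map_ne_zero_iff T T.injective).2 h0)).elim fun y hy =>
    IsUnit.of_mul_eq_one y hy).map T.symm
  rw [AlgEquiv.symm_apply_apply] at hu
  exact (hu.map ε).ne_zero (by simp [ε])

variable {A : Type u} [CommRing A] [HopfAlgebra k A] [Algebra.FiniteType k A]

/-- Smoothness of the coordinate ring. -/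
theorem smooth_of_iso {H : Over (Spec (CommRingCat.of k))} [Smooth H.hom] (e : CoactBr.sp k A ≅ H) :
    Algebra.Smooth k A := by
  have : IsIso e.hom.left := inferInstanceAs (IsIso ((Over.forget _).map e.hom))
  have h : Smooth (CoactBr.sp k A).hom := by
    rw [← Over.w e.hom]; infer_instance
  exact RingHom.smooth_algebraMap.1 ((HasRingHomProperty.Spec_iff (P := @Smooth)).1 h)

/-- A connected smooth group of dimension one becomes the additive or the multiplicative group. -/
theorem classify_bar {H : Over (Spec (CommRingCat.of k))} [Smooth H.hom] [ConnectedSpace H.left]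
    (e : CoactBr.sp k A ≅ H) (hdim : ringKrullDim A = 1) :
    Nonempty (AlgebraicClosure k ⊗[k] A ≃ₐc[AlgebraicClosure k]
        MonoidAlgebra (AlgebraicClosure k) (Multiplicative ℤ)) ∨
      Nonempty (AlgebraicClosure k ⊗[k] A ≃ₐc[AlgebraicClosure k]
        SymmetricAlgebra (AlgebraicClosure k) (AlgebraicClosure k)) := by
  haveI := smooth_of_iso e
  haveI : IsReduced (AlgebraicClosure k ⊗[k] A) :=
    Groth.Calg4.isReduced_of_smooth_field (AlgebraicClosure k) _
  have : ConnectedSpace (Spec (CommRingCat.of A)) := by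
    let E : Spec (CommRingCat.of A) ≅ H.left := (Over.forget _).mapIso e
    exact E.inv.homeomorph.surjective.connectedSpace E.inv.homeomorph.continuous
  have hA : IdemTrivial A := Groth.Calg5.idemTrivial_of_connectedSpace (h := this)
  let c : A ⊗[k] AlgebraicClosure k ≃ₐ[k] AlgebraicClosure k ⊗[k] A := Algebra.TensorProduct.comm _ _ _
  refine Groth.Agent.S7976.result (AlgebraicClosure k) _ (fun x hx => ?_) ?_
  · rcases Groth.Misc1.Unip.DimOne.idemTrivial_tensor_algebraic hA (Bialgebra.counitAlgHom k A)
      (AlgebraicClosure k) (c.symm x) (hx.map c.symm) with h | h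
    · exact Or.inl (by simpa using congrArg c h)
    · exact Or.inr (by simpa using congrArg c h)
  · rw [← ringKrullDim_eq_of_ringEquiv c.toRingEquiv, ← hdim]
    exact Groth.Calg8.ringKrullDim_eq_of_integral A _
      (Algebra.TensorProduct.includeLeft_injective (R := k) (S := k) (A := A) (B := AlgebraicClosure k)
        (algebraMap k (AlgebraicClosure k)).injective)

/-- A finite surjective morphism of affine schemes comes from a finite map of rings. -/
theorem exists_algHom {B : Type u} [CommRing B] [Algebra k B] (g : CoactBr.sp k B ⟶ CoactBr.sp k A)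
    [IsFinite g.left] [Surjective g.left] :
    ∃ φ : A →ₐ[k] B, φ.toRingHom.Finite ∧ RingHom.ker φ.toRingHom ≤ nilradical A := by
  obtain ⟨φ, rfl⟩ := Groth.AlgGrp2.pt_surjective g
  refine ⟨φ, (IsFinite.SpecMap_iff (f := CommRingCat.ofHom φ.toRingHom)).1 ‹IsFinite (CoactBr.pt φ).left›, ?_⟩
  refine (PrimeSpectrum.denseRange_comap_iff_ker_le_nilRadical _).1 ?_
  exact (‹Surjective (CoactBr.pt φ).left›.surj).denseRange

end Groth.OneDimForms
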